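import Mathlib

/-!
# A scheme flat over a domain: a nonzero element of the base is a regular element of every stalk
-/

set_option autoImplicit false
universe u

open AlgebraicGeometry CategoryTheory Limits TopologicalSpace

namespace Groth.Agent.Lib.Helper24.Models

/-- the global function on `Z` induced by `ϖ : R`. -/
noncomputable def pullbackElt {Z : Scheme.{u}} {R : Type u} [CommRing R]
    (π : Z ⟶ Spec (CommRingCat.of R)) (ϖ : R) : Γ(Z, ⊤) :=
  (π.appTop).hom ((Scheme.ΓSpecIso (CommRingCat.of R)).inv.hom ϖ)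

theorem preimage_basicOpen_eq {Z : Scheme.{u}} {R : Type u} [CommRing R]
    (π : Z ⟶ Spec (CommRingCat.of R)) (ϖ : R) :
    π ⁻¹ᵁ (PrimeSpectrum.basicOpen ϖ) = Z.basicOpen (pullbackElt π ϖ) := by
  have h3 : (PrimeSpectrum.basicOpen ϖ : (Spec (CommRingCat.of R)).Opens) =
      (Spec (CommRingCat.of R)).basicOpen ((Scheme.ΓSpecIso (CommRingCat.of R)).inv ϖ) :=
    (basicOpen_eq_of_affine (R := CommRingCat.of R) ϖ).symm
  rw [h3, Scheme.preimage_basicOpen]
  rfl

theorem isSMulRegular_germ_of_flat {Z : Scheme.{u}} {R : Type u} [CommRing R] [IsDomain R]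
    (π : Z ⟶ Spec (CommRingCat.of R)) [Flat π] (ϖ : R) (hϖ : ϖ ≠ 0) (z : Z) :
    IsSMulRegular (Z.presheaf.stalk z) (Z.presheaf.germ ⊤ z trivial (pullbackElt π ϖ)) := by
  obtain ⟨_, ⟨W, hW, rfl⟩, hzW, -⟩ :=
    Z.isBasis_affineOpens.exists_subset_of_mem_open (Set.mem_univ z) isOpen_univ
  have hzW' : z ∈ W := hzW
  let θ : R →+* Γ(Z, W) :=
    (π.appLE ⊤ W le_top).hom.comp (Scheme.ΓSpecIso (CommRingCat.of R)).inv.hom
  have hθ : θ.Flat := by
    refine RingHom.Flat.comp ?_ (HasRingHomProperty.appLE (P := @Flat) π inferInstance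
      ⟨⊤, isAffineOpen_top _⟩ ⟨W, hW⟩ le_top)
    exact RingHom.Flat.of_bijective
      (ConcreteCategory.bijective_of_isIso (Scheme.ΓSpecIso (CommRingCat.of R)).inv)
  have hgerm : Z.presheaf.germ ⊤ z trivial (pullbackElt π ϖ) =
      Z.presheaf.germ W z hzW' (θ ϖ) := by
    have : θ ϖ = (Z.presheaf.map (homOfLE (le_top : W ≤ ⊤)).op).hom (pullbackElt π ϖ) := rfl
    rw [this]
    exact (TopCat.Presheaf.germ_res_apply Z.presheaf (homOfLE (le_top : W ≤ ⊤)) z hzW' _).symm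
  rw [hgerm]
  letI : Algebra Γ(Z, W) (Z.presheaf.stalk z) :=
    TopCat.Presheaf.algebra_section_stalk Z.presheaf ⟨z, hzW'⟩
  haveI : IsLocalization.AtPrime (Z.presheaf.stalk z) (hW.primeIdealOf ⟨z, hzW'⟩).asIdeal :=
    hW.isLocalization_stalk ⟨z, hzW'⟩
  have h1 : θ ϖ ∈ nonZeroDivisors Γ(Z, W) := by
    letI : Algebra R Γ(Z, W) := θ.toAlgebra
    haveI : Module.Flat R Γ(Z, W) := hθ
    have h2 : IsSMulRegular Γ(Z, W) ϖ :=
      Module.Flat.isSMulRegular_of_nonZeroDivisors (mem_nonZeroDivisors_of_ne_zero hϖ)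
    rw [mem_nonZeroDivisors_iff_right]
    intro x hx
    apply h2
    change ϖ • x = ϖ • 0
    rw [smul_zero, Algebra.smul_def, mul_comm]
    exact hx
  have h3 := IsLocalization.map_nonZeroDivisors_le
    (hW.primeIdealOf ⟨z, hzW'⟩).asIdeal.primeCompl (Z.presheaf.stalk z)
    (Submonoid.mem_map_of_mem _ h1)
  have h4 : IsSMulRegular (Z.presheaf.stalk z)
      (algebraMap Γ(Z, W) (Z.presheaf.stalk z) (θ ϖ)) := by
    intro x y hxy
    simp only [smul_eq_mul] at hxy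
    have := (mem_nonZeroDivisors_iff_left.1 h3) (x - y) (by rw [mul_sub, hxy, sub_self])
    exact sub_eq_zero.1 this
  exact h4

theorem exists_regular_of_flat {Z : Scheme.{u}} {R : Type u} [CommRing R] [IsDomain R]
    (π : Z ⟶ Spec (CommRingCat.of R)) [Flat π] (ϖ : R) (hϖ : ϖ ≠ 0) (z : Z)
    (hz : z ∉ π ⁻¹ᵁ (PrimeSpectrum.basicOpen ϖ)) :
    ∃ a ∈ IsLocalRing.maximalIdeal (Z.presheaf.stalk z),
      IsSMulRegular (Z.presheaf.stalk z) a := by
  refine ⟨_, ?_, isSMulRegular_germ_of_flat π ϖ hϖ z⟩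
  rw [IsLocalRing.mem_maximalIdeal, mem_nonunits_iff]
  intro hu
  apply hz
  rw [preimage_basicOpen_eq]
  exact (Z.mem_basicOpen (U := ⊤) (pullbackElt π ϖ) z trivial).2 hu

end Groth.Agent.Lib.Helper24.Models
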