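import Mathlib
import Groth.Agent.Lib.Helper24.Models.FlatReg
import Groth.Agent.Lib.Helper24.SchDense.Main14271

/-!
# A section over `V` of a separated morphism `Z → C`, with `Z` flat over a domain and `Z → C` an
isomorphism over the generic fibre, is an isomorphism onto `Z|_V`.
-/

set_option autoImplicit false
universe u

open AlgebraicGeometry CategoryTheory Limits TopologicalSpace

namespace Groth.Agent.Lib.Helper24.Models

/-- two morphisms into `Z` landing over `U`, equal after composing with `g`, are equal when `g` is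
an isomorphism over `U`. -/
theorem eq_of_comp_eq_of_isIso_restrict {T Z C : Scheme.{u}} (g : Z ⟶ C) (U : C.Opens)
    [IsIso (g ∣_ U)] (a b : T ⟶ Z) (hab : a ≫ g = b ≫ g) (hb' : ∀ t : T, (b ≫ g) t ∈ U) :
    a = b := by
  have hb : ∀ t : T, g (b t) ∈ U := by
    intro t
    rw [← Scheme.Hom.comp_apply]
    exact hb' t
  have ha : ∀ t : T, g (a t) ∈ U := by
    intro t
    rw [← Scheme.Hom.comp_apply, hab]
    exact hb' t
  have hra : Set.range a ⊆ Set.range (g ⁻¹ᵁ U).ι := by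
    rintro _ ⟨t, rfl⟩
    rw [Scheme.Opens.range_ι]
    exact ha t
  have hrb : Set.range b ⊆ Set.range (g ⁻¹ᵁ U).ι := by
    rintro _ ⟨t, rfl⟩
    rw [Scheme.Opens.range_ι]
    exact hb t
  have h1 : IsOpenImmersion.lift (g ⁻¹ᵁ U).ι a hra = IsOpenImmersion.lift (g ⁻¹ᵁ U).ι b hrb := by
    rw [← cancel_mono (g ∣_ U), ← cancel_mono U.ι]
    simp only [Category.assoc, morphismRestrict_ι]
    rw [IsOpenImmersion.lift_fac_assoc, IsOpenImmersion.lift_fac_assoc, hab]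
  rw [← IsOpenImmersion.lift_fac (g ⁻¹ᵁ U).ι a hra, h1, IsOpenImmersion.lift_fac]

theorem isIso_restrict_of_section {R : Type u} [CommRing R] [IsDomain R] {C Z : Scheme.{u}}
    (πC : C ⟶ Spec (CommRingCat.of R)) (g : Z ⟶ C) [IsSeparated g] [Flat (g ≫ πC)]
    (ϖ : R) (hϖ : ϖ ≠ 0)
    (hgen : IsIso (g ∣_ (πC ⁻¹ᵁ (PrimeSpectrum.basicOpen ϖ))))
    (V : C.Opens) (σ : V.toScheme ⟶ Z) (hσ : σ ≫ g = V.ι) : IsIso (g ∣_ V) := by
  have hrσ : Set.range σ ⊆ Set.range (g ⁻¹ᵁ V).ι := by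
    rintro _ ⟨t, rfl⟩
    rw [Scheme.Opens.range_ι]
    change g (σ t) ∈ V
    rw [← Scheme.Hom.comp_apply, hσ]
    exact t.2
  let σ' : V.toScheme ⟶ (g ⁻¹ᵁ V).toScheme := IsOpenImmersion.lift (g ⁻¹ᵁ V).ι σ hrσ
  have hσ' : σ' ≫ (g ⁻¹ᵁ V).ι = σ := IsOpenImmersion.lift_fac _ _ _
  have hsec : σ' ≫ (g ∣_ V) = 𝟙 _ := by
    rw [← cancel_mono V.ι, Category.assoc, morphismRestrict_ι, ← Category.assoc, hσ', hσ,
      Category.id_comp]
  haveI : IsClosedImmersion (σ' ≫ (g ∣_ V)) := by rw [hsec]; infer_instance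
  haveI : IsClosedImmersion σ' := IsClosedImmersion.of_comp σ' (g ∣_ V)
  let π' : (g ⁻¹ᵁ V).toScheme ⟶ Spec (CommRingCat.of R) := (g ⁻¹ᵁ V).ι ≫ g ≫ πC
  haveI : Flat π' := by
    haveI : Flat (g ≫ πC) := ‹_›
    exact inferInstanceAs (Flat ((g ⁻¹ᵁ V).ι ≫ (g ≫ πC)))
  have hl : ((π' ⁻¹ᵁ (PrimeSpectrum.basicOpen ϖ)).ι ≫ (g ∣_ V)) ≫ σ' =
      (π' ⁻¹ᵁ (PrimeSpectrum.basicOpen ϖ)).ι := by
    rw [← cancel_mono (g ⁻¹ᵁ V).ι]
    haveI := hgen
    apply eq_of_comp_eq_of_isIso_restrict g (πC ⁻¹ᵁ (PrimeSpectrum.basicOpen ϖ))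
    · simp only [Category.assoc]
      rw [reassoc_of% hσ', hσ, morphismRestrict_ι]
    · intro t
      have ht : π' t.1 ∈ (PrimeSpectrum.basicOpen ϖ : (Spec (CommRingCat.of R)).Opens) := t.2
      simp only [Scheme.Hom.comp_apply]
      simp only [π', Scheme.Hom.comp_apply] at ht
      exact ht
  haveI : IsIso σ' := SchDense.isIso_of_factors _ (π' ⁻¹ᵁ (PrimeSpectrum.basicOpen ϖ))
    (fun z hz => exists_regular_of_flat π' ϖ hϖ z hz) σ'
    ((π' ⁻¹ᵁ (PrimeSpectrum.basicOpen ϖ)).ι ≫ (g ∣_ V)) hl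
  haveI : IsIso (σ' ≫ (g ∣_ V)) := by rw [hsec]; infer_instance
  exact IsIso.of_isIso_comp_left σ' (g ∣_ V)

end Groth.Agent.Lib.Helper24.Models
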