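import Mathlib
import Groth.Agent.Lib.Helper24.Models.Section
import Groth.Agent.Lib.Helper24.Hartogs.Tors

/-!
# Sections of morphisms which are isomorphisms over a schematically dense open (S17727)
-/

set_option autoImplicit false
universe u

open AlgebraicGeometry CategoryTheory Limits TopologicalSpace

namespace Groth.Agent.Lib.Helper24.Models

/-- schematic density in the section-wise sense. -/
def SchDenseOpen {X : Scheme.{u}} (U : X.Opens) : Prop :=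
  ∀ V : X.Opens, Function.Injective (X.presheaf.map (homOfLE (inf_le_left : V ⊓ U ≤ V)).op)

theorem isIso_of_factors' {Z E : Scheme.{u}} (U' : Z.Opens) (hd : SchDenseOpen U')
    (e : E ⟶ Z) [IsClosedImmersion e] (l : U'.toScheme ⟶ E) (hl : l ≫ e = U'.ι) : IsIso e := by
  rw [IsClosedImmersion.isIso_iff_ker_eq_bot, eq_bot_iff]
  intro V s hs
  rw [Scheme.Hom.ker_apply, RingHom.mem_ker] at hs
  change s ∈ (⊥ : Ideal Γ(Z, V.1))
  rw [Ideal.mem_bot]
  have h1 := SchDense.app_eq_zero_of_comp l e U'.ι hl V.1 s hs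
  rw [Scheme.Opens.ι_app] at h1
  apply hd V.1
  have hle : V.1 ⊓ U' ≤ U'.ι ''ᵁ U'.ι ⁻¹ᵁ V.1 := by
    rintro x ⟨hxV, hxU⟩
    exact ⟨⟨x, hxU⟩, hxV, rfl⟩
  have h2 := Hartogs.res_res (X := Z) (Set.image_preimage_subset _ _ :
    U'.ι ''ᵁ U'.ι ⁻¹ᵁ V.1 ≤ V.1) hle s
  have h3 : (Z.presheaf.map (homOfLE (inf_le_left : V.1 ⊓ U' ≤ V.1)).op).hom s = 0 := by
    rw [← h2]
    exact (congrArg (Z.presheaf.map (homOfLE hle).op).hom h1).trans (map_zero _)
  exact h3.trans (map_zero _).symm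

/-- schematic density passes to open subschemes. -/
theorem schDenseOpen_restrict {X : Scheme.{u}} (U : X.Opens) (hd : SchDenseOpen U) (W : X.Opens) :
    SchDenseOpen (W.ι ⁻¹ᵁ U) := by
  intro V a b hab
  apply hd (W.ι ''ᵁ V)
  have hle : (W.ι ''ᵁ V) ⊓ U ≤ W.ι ''ᵁ (V ⊓ W.ι ⁻¹ᵁ U) := by
    rintro x ⟨⟨y, hyV, rfl⟩, hxU⟩
    exact ⟨y, ⟨hyV, hxU⟩, rfl⟩
  have hle2 : W.ι ''ᵁ (V ⊓ W.ι ⁻¹ᵁ U) ≤ W.ι ''ᵁ V := by
    rintro x ⟨y, hy, rfl⟩
    exact ⟨y, hy.1, rfl⟩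
  have hab' : (X.presheaf.map (homOfLE hle2).op).hom a = (X.presheaf.map (homOfLE hle2).op).hom b :=
    hab
  have ha := Hartogs.res_res (X := X) hle2 hle a
  have hb := Hartogs.res_res (X := X) hle2 hle b
  change (X.presheaf.map (homOfLE (inf_le_left : (W.ι ''ᵁ V) ⊓ U ≤ W.ι ''ᵁ V)).op).hom a =
    (X.presheaf.map (homOfLE (inf_le_left : (W.ι ''ᵁ V) ⊓ U ≤ W.ι ''ᵁ V)).op).hom b
  rw [← ha, ← hb, hab']

theorem main17727 {E S : Scheme.{u}} (f : E ⟶ S) (U : S.Opens)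
    (hiso : IsIso (morphismRestrict f U)) (hdense : SchDenseOpen (f ⁻¹ᵁ U))
    (σ : S ⟶ E) (hσ : σ ≫ f = 𝟙 S) (s : S) :
    ∃ W : E.Opens, σ.base s ∈ W ∧ IsOpenImmersion (W.ι ≫ f) := by
  haveI := hiso
  haveI : IsImmersion (σ ≫ f) := by rw [hσ]; infer_instance
  haveI : IsImmersion σ := IsImmersion.of_comp σ f
  have hσ' : σ.liftCoborder ≫ σ.coborderRange.ι = σ := σ.liftCoborder_ι
  have hd := schDenseOpen_restrict (f ⁻¹ᵁ U) hdense σ.coborderRange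
  have hl : ((σ.coborderRange.ι ⁻¹ᵁ (f ⁻¹ᵁ U)).ι ≫ σ.coborderRange.ι ≫ f) ≫ σ.liftCoborder =
      (σ.coborderRange.ι ⁻¹ᵁ (f ⁻¹ᵁ U)).ι := by
    rw [← cancel_mono σ.coborderRange.ι]
    apply eq_of_comp_eq_of_isIso_restrict f U
    · simp only [Category.assoc]
      rw [reassoc_of% hσ', hσ, Category.comp_id]
    · intro t
      have ht : σ.coborderRange.ι t.1 ∈ f ⁻¹ᵁ U := t.2
      simp only [Scheme.Hom.comp_apply]
      exact ht
  haveI : IsIso σ.liftCoborder := isIso_of_factors' _ hd σ.liftCoborder _ hl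
  refine ⟨σ.coborderRange, ?_, ?_⟩
  · have : σ s = σ.coborderRange.ι (σ.liftCoborder s) := by
      rw [← Scheme.Hom.comp_apply, hσ']
    rw [this]
    exact (σ.liftCoborder s).2
  · have h1 : σ.coborderRange.ι ≫ f = inv σ.liftCoborder := by
      rw [← cancel_epi σ.liftCoborder, IsIso.hom_inv_id, reassoc_of% hσ', hσ]
    rw [h1]
    infer_instance

end Groth.Agent.Lib.Helper24.Models
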