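import Mathlib
import Groth.Agent.Lib.Helper24.Models.SchDenseSection

/-!
# Flat pullback preserves schematic density of opens (locally Noetherian base)
-/

set_option autoImplicit false
universe u

open AlgebraicGeometry CategoryTheory Limits TopologicalSpace

namespace Groth.Agent.Lib.Helper24.Models

open scoped TensorProduct

theorem eq_zero_of_forall_mul_eq_zero_of_flat {B C : Type*} [CommRing B] [CommRing C] [Algebra B C]
    [Module.Flat B C] {ι : Type*} [Fintype ι] [DecidableEq ι] (t : ι → B)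
    (hB : ∀ b : B, (∀ i, t i * b = 0) → b = 0) (c : C)
    (hc : ∀ i, algebraMap B C (t i) * c = 0) : c = 0 := by
  let ψ : B →ₗ[B] (ι → B) := LinearMap.pi (fun i => LinearMap.lsmul B B (t i))
  have hψ : Function.Injective ψ := by
    rw [← LinearMap.ker_eq_bot, LinearMap.ker_eq_bot']
    intro b hb
    apply hB
    intro i
    have := congrFun hb i
    simpa [ψ] using this
  have hinj := Module.Flat.lTensor_preserves_injective_linearMap (M := C) ψ hψ
  have h0 : (ψ.lTensor C) (c ⊗ₜ[B] (1 : B)) = 0 := by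
    rw [LinearMap.lTensor_tmul]
    have h1 : ψ 1 = ∑ i, t i • (Pi.single i (1 : B) : ι → B) := by
      ext j
      simp [ψ, Finset.sum_apply, Pi.single_apply]
    rw [h1, TensorProduct.tmul_sum]
    apply Finset.sum_eq_zero
    intro i _
    rw [TensorProduct.tmul_smul, TensorProduct.smul_tmul', Algebra.smul_def, hc i,
      TensorProduct.zero_tmul]
  have h2 : c ⊗ₜ[B] (1 : B) = 0 := hinj (by rw [h0, map_zero])
  have h3 := congrArg (TensorProduct.rid B C) h2
  simpa using h3

/-- flat pullback of a schematically dense open (target locally Noetherian). -/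
theorem schDenseOpen_preimage_of_flat {P N : Scheme.{u}} [IsLocallyNoetherian N] (g : P ⟶ N)
    [Flat g] (U' : N.Opens) (hU' : SchDenseOpen U') : SchDenseOpen (g ⁻¹ᵁ U') := by
  classical
  intro V a b hab
  rw [← sub_eq_zero]
  have hd : (P.presheaf.map (homOfLE (inf_le_left : V ⊓ g ⁻¹ᵁ U' ≤ V)).op).hom (a - b) = 0 := by
    rw [map_sub, sub_eq_zero]
    exact hab
  generalize a - b = d at hd
  refine TopCat.Presheaf.IsSheaf.section_ext P.sheaf.2 (U := Opposite.op V) ?_
  intro p hp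
  obtain ⟨_, ⟨M, hM : IsAffineOpen M, rfl⟩, hgpM, -⟩ :=
    N.isBasis_affineOpens.exists_subset_of_mem_open (Set.mem_univ (g p)) isOpen_univ
  obtain ⟨_, ⟨V', hV' : IsAffineOpen V', rfl⟩, hpV', hV'le⟩ :=
    P.isBasis_affineOpens.exists_subset_of_mem_open
      (show p ∈ ((V ⊓ g ⁻¹ᵁ M : P.Opens) : Set P) from ⟨hp, hgpM⟩) (V ⊓ g ⁻¹ᵁ M).isOpen
  have hV'V : V' ≤ V := fun q hq => (hV'le hq).1
  have hV'M : V' ≤ g ⁻¹ᵁ M := fun q hq => (hV'le hq).2
  refine ⟨V', hV'V, hpV', ?_⟩
  change (P.presheaf.map (homOfLE hV'V).op).hom d = (P.presheaf.map (homOfLE hV'V).op).hom 0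
  rw [map_zero]
  -- algebra
  have hflat : (g.appLE M V' hV'M).hom.Flat :=
    HasRingHomProperty.appLE (P := @Flat) g inferInstance ⟨M, hM⟩ ⟨V', hV'⟩ hV'M
  -- finite cover of `M ⊓ U'` by basic opens
  haveI : IsNoetherianRing Γ(N, M) := IsLocallyNoetherian.component_noetherian ⟨M, hM⟩
  haveI hNS : NoetherianSpace (M : Set N) := noetherianSpace_of_isAffineOpen M hM
  have hcompact : IsCompact ((M ⊓ U' : N.Opens) : Set N) := by
    have h1 : IsCompact {y : (M : Set N) | (y : N) ∈ U'} := NoetherianSpace.isCompact _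
    have h2 := h1.image continuous_subtype_val
    convert h2 using 1
    ext x
    constructor
    · rintro ⟨hxM, hxU⟩
      exact ⟨⟨x, hxM⟩, hxU, rfl⟩
    · rintro ⟨y, hy, rfl⟩
      exact ⟨y.2, hy⟩
  obtain ⟨T, hT⟩ := hcompact.elim_finite_subcover
    (fun t : {t : Γ(N, M) // N.basicOpen t ≤ M ⊓ U'} => ((N.basicOpen t.1 : N.Opens) : Set N))
    (fun t => (N.basicOpen t.1).isOpen) (by
      intro x hx
      obtain ⟨t, ht1, ht2⟩ := hM.exists_basicOpen_le (V := M ⊓ U') ⟨x, hx⟩ hx.1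
      exact Set.mem_iUnion.2 ⟨⟨t, ht1⟩, ht2⟩)
  -- restriction of `d` to `V'`
  obtain ⟨c, hcdef⟩ : ∃ c : Γ(P, V'), c = (P.presheaf.map (homOfLE hV'V).op).hom d := ⟨_, rfl⟩
  rw [← hcdef]
  -- powers killing `c`
  have hpow : ∀ t : {t : Γ(N, M) // N.basicOpen t ≤ M ⊓ U'}, ∃ m : ℕ,
      ((g.appLE M V' hV'M).hom t.1) ^ m * c = 0 := by
    intro t
    apply exists_pow_mul_eq_zero_of_res_basicOpen_eq_zero_of_isAffineOpen P hV' c
    have hle : P.basicOpen ((g.appLE M V' hV'M).hom t.1) ≤ V ⊓ g ⁻¹ᵁ U' := by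
      intro q hq
      have hqV' : q ∈ V' := P.basicOpen_le _ hq
      refine ⟨hV'V hqV', ?_⟩
      have h1 : q ∈ g ⁻¹ᵁ (N.basicOpen t.1) := by
        rw [Scheme.preimage_basicOpen]
        have h2 : P.basicOpen ((g.appLE M V' hV'M).hom t.1) ≤ P.basicOpen ((g.app M).hom t.1) := by
          change P.basicOpen ((P.presheaf.map (homOfLE hV'M).op).hom ((g.app M).hom t.1)) ≤ _
          rw [Scheme.basicOpen_res]
          exact inf_le_right
        exact h2 hq
      exact (t.2 h1).2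
    have h1 := Hartogs.res_res (X := P) hV'V (P.basicOpen_le ((g.appLE M V' hV'M).hom t.1)) d
    have h2 := Hartogs.res_res (X := P) (inf_le_left : V ⊓ g ⁻¹ᵁ U' ≤ V) hle d
    change (P.presheaf.map (homOfLE (P.basicOpen_le ((g.appLE M V' hV'M).hom t.1))).op).hom c = 0
    rw [hcdef, h1, ← h2, hd, map_zero]
  choose m hm using hpow
  -- apply the algebra lemma
  letI : Algebra Γ(N, M) Γ(P, V') := (g.appLE M V' hV'M).hom.toAlgebra
  haveI : Module.Flat Γ(N, M) Γ(P, V') := hflat
  refine eq_zero_of_forall_mul_eq_zero_of_flat (ι := T) (fun t => t.1.1 ^ m t.1) ?_ c ?_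
  · intro β hβ
    apply hU' M
    rw [map_zero]
    refine TopCat.Presheaf.IsSheaf.section_ext N.sheaf.2 (U := Opposite.op (M ⊓ U')) ?_
    intro x hx
    obtain ⟨t, htT, hxt⟩ : ∃ t ∈ T, x ∈ N.basicOpen t.1 := by
      have := hT hx
      simpa using this
    refine ⟨N.basicOpen t.1, t.2, hxt, ?_⟩
    change (N.presheaf.map (homOfLE t.2).op).hom
      ((N.presheaf.map (homOfLE (inf_le_left : M ⊓ U' ≤ M)).op).hom β) =
      (N.presheaf.map (homOfLE t.2).op).hom 0
    rw [map_zero, Hartogs.res_res]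
    have h1 := hβ ⟨t, htT⟩
    have h2 := congrArg (N.presheaf.map (homOfLE (N.basicOpen_le t.1)).op).hom h1
    rw [map_mul, map_zero, map_pow] at h2
    have hu : IsUnit ((N.presheaf.map (homOfLE (N.basicOpen_le t.1)).op).hom t.1) :=
      N.toRingedSpace.isUnit_res_basicOpen t.1
    exact (hu.pow _).mul_right_eq_zero.1 h2
  · intro t
    change (g.appLE M V' hV'M).hom (t.1.1 ^ m t.1) * c = 0
    rw [map_pow]
    exact hm t.1

end Groth.Agent.Lib.Helper24.Models
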