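import Mathlib
import Groth.Agent.Lib.Helper24.Models.FlatDense
import Groth.Agent.Lib.Helper21.FlatDescK

/-!
# Flat "birational" morphisms are locally open immersions (towards S17728)
-/

set_option autoImplicit false
universe u

open AlgebraicGeometry CategoryTheory Limits TopologicalSpace

namespace Groth.Agent.Lib.Helper24.Models

theorem isOpenImmersion_of_flat_of_monoOver {N' S : Scheme.{u}} [IsLocallyNoetherian N']
    (h : N' ⟶ S) [Flat h] [LocallyOfFinitePresentation h] [IsSeparated h] (U : S.Opens)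
    (hmono : ∀ {T : Scheme.{u}} (a b : T ⟶ N'), a ≫ h = b ≫ h → (∀ t, (b ≫ h) t ∈ U) → a = b)
    (hd : SchDenseOpen (h ⁻¹ᵁ U)) : IsOpenImmersion h := by
  have hdP : SchDenseOpen ((pullback.fst h h) ⁻¹ᵁ (h ⁻¹ᵁ U)) :=
    schDenseOpen_preimage_of_flat (pullback.fst h h) _ hd
  have h12 : ((pullback.fst h h) ⁻¹ᵁ (h ⁻¹ᵁ U)).ι ≫ pullback.snd h h =
      ((pullback.fst h h) ⁻¹ᵁ (h ⁻¹ᵁ U)).ι ≫ pullback.fst h h := by
    apply hmono
    · simp only [Category.assoc, pullback.condition]
    · intro t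
      have ht : pullback.fst h h t.1 ∈ h ⁻¹ᵁ U := t.2
      simp only [Scheme.Hom.comp_apply]
      exact ht
  have hl : (((pullback.fst h h) ⁻¹ᵁ (h ⁻¹ᵁ U)).ι ≫ pullback.fst h h) ≫ pullback.diagonal h =
      ((pullback.fst h h) ⁻¹ᵁ (h ⁻¹ᵁ U)).ι := by
    apply pullback.hom_ext
    · simp only [Category.assoc, pullback.diagonal_fst, Category.comp_id]
    · simp only [Category.assoc, pullback.diagonal_snd, Category.comp_id]
      exact h12.symm
  haveI : IsIso (pullback.diagonal h) :=
    isIso_of_factors' _ hdP (pullback.diagonal h) _ hl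
  haveI : Mono h := (pullback.isIso_diagonal_iff h).1 inferInstance
  exact IsOpenImmersion.of_flat_of_mono h

/-- "mono over `U`" for a morphism which is an isomorphism over `U`, restricted to an open. -/
theorem monoOver_of_isIso_restrict {X S : Scheme.{u}} (f : X ⟶ S) (U : S.Opens) [IsIso (f ∣_ U)]
    (N' : X.Opens) {T : Scheme.{u}} (a b : T ⟶ N'.toScheme) (hab : a ≫ N'.ι ≫ f = b ≫ N'.ι ≫ f)
    (hb : ∀ t, (b ≫ N'.ι ≫ f) t ∈ U) : a = b := by
  rw [← cancel_mono N'.ι]
  apply eq_of_comp_eq_of_isIso_restrict f U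
  · simpa only [Category.assoc] using hab
  · intro t
    have := hb t
    simpa only [Category.assoc] using this

/-- flat at `x` ⇒ `f` is an open immersion on an affine open neighbourhood of `x`. -/
theorem exists_isOpenImmersion_of_flat_stalkMap {X S : Scheme.{u}} [IsLocallyNoetherian S]
    (f : X ⟶ S) [LocallyOfFiniteType f] (U : S.Opens) [IsIso (f ∣_ U)]
    (hdense : SchDenseOpen (f ⁻¹ᵁ U)) (x : X) (hx : (f.stalkMap x).hom.Flat) :
    ∃ N' : X.Opens, x ∈ N' ∧ IsAffineOpen N' ∧ IsOpenImmersion (N'.ι ≫ f) := by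
  haveI : LocallyOfFinitePresentation f :=
    LocallyOfFinitePresentation.iff_locallyOfFiniteType.2 inferInstance
  haveI : IsLocallyNoetherian X := LocallyOfFiniteType.isLocallyNoetherian f
  have hopen := Groth.Agent.Lib.Helper21.FlatDesc.isOpen_flat_locus f
  obtain ⟨_, ⟨N', hN' : IsAffineOpen N', rfl⟩, hxN', hN'F⟩ :=
    X.isBasis_affineOpens.exists_subset_of_mem_open
      (show x ∈ {x : X | (f.stalkMap x).hom.Flat} from hx) hopen
  refine ⟨N', hxN', hN', ?_⟩
  haveI : IsAffine (Scheme.Opens.toScheme N') := hN'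
  haveI : IsLocallyNoetherian (Scheme.Opens.toScheme N') :=
    isLocallyNoetherian_of_isOpenImmersion (Scheme.Opens.ι N')
  haveI : Flat (Scheme.Opens.ι N' ≫ f) := by
    apply Flat.of_stalkMap
    intro y
    rw [Scheme.Hom.stalkMap_comp]
    have h1 : (f.stalkMap ((Scheme.Opens.ι N') y)).hom.Flat := hN'F y.2
    have h2 : ((Scheme.Opens.ι N').stalkMap y).hom.Flat :=
      RingHom.Flat.of_bijective (ConcreteCategory.bijective_of_isIso _)
    exact RingHom.Flat.comp h1 h2
  exact isOpenImmersion_of_flat_of_monoOver (Scheme.Opens.ι N' ≫ f) U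
    (fun a b hab hb => monoOver_of_isIso_restrict f U N' a b hab hb)
    (schDenseOpen_restrict (f ⁻¹ᵁ U) hdense N')

end Groth.Agent.Lib.Helper24.Models
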