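import Mathlib
import Groth.Agent.Lib.Helper24.Models.FlatReg

/-!
# Valuative-criterion lift at a codimension one normal point, spread out to a neighbourhood
-/

set_option autoImplicit false
universe u

open AlgebraicGeometry CategoryTheory Limits TopologicalSpace

namespace Groth.Agent.Lib.Helper24.Models

theorem valuationRing_of_dim_one (O : Type*) [CommRing O] [IsDomain O] [IsLocalRing O]
    [IsNoetherianRing O] [IsIntegrallyClosed O] (hdim : ringKrullDim O = 1) : ValuationRing O := by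
  have h := (tfae_of_isNoetherianRing_of_isLocalRing_of_isDomain O).out 3 1
  haveI : Ring.KrullDimLE 1 O := by
    rw [Ring.krullDimLE_iff]
    exact hdim.le
  exact h.1 ⟨inferInstance, fun P hP hP' => IsLocalRing.eq_maximalIdeal
    (Ring.krullDimLE_one_iff_of_noZeroDivisors.mp inferInstance P hP hP')⟩

theorem comp_fromSpecStalk_mem_basicOpen {C : Scheme.{u}} (c : C) (s : Γ(C, ⊤)) {K : Type u}
    [Field K] (φ : C.presheaf.stalk c ⟶ CommRingCat.of K)
    (hs : φ.hom (C.presheaf.germ ⊤ c trivial s) ≠ 0) (pt : Spec (CommRingCat.of K)) :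
    (Spec.map φ ≫ C.fromSpecStalk c) pt ∈ C.basicOpen s := by
  rw [← Scheme.toSpecΓ_preimage_basicOpen]
  change C.toSpecΓ ((Spec.map φ ≫ C.fromSpecStalk c) pt) ∈
    (PrimeSpectrum.basicOpen s : (Spec Γ(C, ⊤)).Opens)
  rw [← Scheme.Hom.comp_apply, Category.assoc, Scheme.fromSpecStalk_toSpecΓ, ← Spec.map_comp]
  change s ∉ (PrimeSpectrum.comap (C.presheaf.germ ⊤ c trivial ≫ φ).hom pt).asIdeal
  intro hmem
  have hmem' : φ.hom (C.presheaf.germ ⊤ c trivial s) ∈ pt.asIdeal := hmem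
  have hu : IsUnit (φ.hom (C.presheaf.germ ⊤ c trivial s)) := isUnit_iff_ne_zero.2 hs
  exact pt.2.ne_top (Ideal.eq_top_of_isUnit_mem _ hmem' hu)

theorem exists_section_nhds (R : Type u) [CommRing R] [IsDomain R] [IsDiscreteValuationRing R]
    {C Z : Scheme.{u}} (πC : C ⟶ Spec (CommRingCat.of R)) [Flat πC] [LocallyOfFiniteType πC]
    (g : Z ⟶ C) [IsProper g] (ϖ : R) (hϖ : ϖ ≠ 0)
    (hgen : IsIso (g ∣_ (πC ⁻¹ᵁ (PrimeSpectrum.basicOpen ϖ))))
    (c : C) (hdom : IsDomain (C.presheaf.stalk c))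
    (hnorm : IsIntegrallyClosed (C.presheaf.stalk c))
    (hdim : ringKrullDim (C.presheaf.stalk c) = 1) :
    ∃ (V : C.Opens) (_ : c ∈ V) (σ : V.toScheme ⟶ Z), σ ≫ g = V.ι := by
  haveI : IsLocallyNoetherian C := LocallyOfFiniteType.isLocallyNoetherian πC
  haveI := hdom
  haveI := hnorm
  haveI := hgen
  haveI : ValuationRing (C.presheaf.stalk c) := valuationRing_of_dim_one _ hdim
  let φ : C.presheaf.stalk c ⟶ CommRingCat.of (FractionRing (C.presheaf.stalk c)) :=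
    CommRingCat.ofHom (algebraMap (C.presheaf.stalk c) (FractionRing (C.presheaf.stalk c)))
  have hs : φ.hom (C.presheaf.germ ⊤ c trivial (pullbackElt πC ϖ)) ≠ 0 := by
    have h1 : C.presheaf.germ ⊤ c trivial (pullbackElt πC ϖ) ≠ 0 := by
      intro h
      have h2 := isSMulRegular_germ_of_flat πC ϖ hϖ c
      rw [h] at h2
      have h3 : (1 : C.presheaf.stalk c) = 0 := h2 (by simp)
      exact one_ne_zero h3
    exact (map_ne_zero_iff _ (IsFractionRing.injective (C.presheaf.stalk c)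
      (FractionRing (C.presheaf.stalk c)))).2 h1
  have hq : Set.range (Spec.map φ ≫ C.fromSpecStalk c) ⊆
      Set.range (πC ⁻¹ᵁ (PrimeSpectrum.basicOpen ϖ)).ι := by
    rintro _ ⟨pt, rfl⟩
    rw [Scheme.Opens.range_ι, preimage_basicOpen_eq]
    exact comp_fromSpecStalk_mem_basicOpen c _ φ hs pt
  have h₁ : (IsOpenImmersion.lift (πC ⁻¹ᵁ (PrimeSpectrum.basicOpen ϖ)).ι
      (Spec.map φ ≫ C.fromSpecStalk c) hq ≫ inv (g ∣_ (πC ⁻¹ᵁ (PrimeSpectrum.basicOpen ϖ))) ≫
      (g ⁻¹ᵁ (πC ⁻¹ᵁ (PrimeSpectrum.basicOpen ϖ))).ι) ≫ g =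
      Spec.map φ ≫ C.fromSpecStalk c := by
    simp only [Category.assoc]
    rw [← morphismRestrict_ι, IsIso.inv_hom_id_assoc, IsOpenImmersion.lift_fac]
  let S : ValuativeCommSq g :=
    { R := C.presheaf.stalk c
      domain := hdom
      K := FractionRing (C.presheaf.stalk c)
      i₁ := IsOpenImmersion.lift (πC ⁻¹ᵁ (PrimeSpectrum.basicOpen ϖ)).ι
        (Spec.map φ ≫ C.fromSpecStalk c) hq ≫
        inv (g ∣_ (πC ⁻¹ᵁ (PrimeSpectrum.basicOpen ϖ))) ≫
        (g ⁻¹ᵁ (πC ⁻¹ᵁ (PrimeSpectrum.basicOpen ϖ))).ι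
      i₂ := C.fromSpecStalk c
      commSq := ⟨h₁⟩ }
  have hex : ValuativeCriterion.Existence g := by
    have : UniversallyClosed g := inferInstance
    rw [UniversallyClosed.eq_valuativeCriterion] at this
    exact this.1
  obtain ⟨⟨l⟩⟩ := hex S
  let ll : Spec (C.presheaf.stalk c) ⟶ Z := l.l
  have hl : ll ≫ g = C.fromSpecStalk c ≫ 𝟙 C := by
    rw [Category.comp_id]
    exact l.fac_right
  obtain ⟨V, hcV, σ, -, hσ⟩ := spread_out_of_isGermInjective' (𝟙 C) g (x := c) ll hl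
  exact ⟨V, hcV, σ, by rw [hσ, Category.comp_id]⟩

end Groth.Agent.Lib.Helper24.Models
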