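import Mathlib
import Groth.Agent.Lib.Helper24.Models.FlatBirat

/-!
# S17728: étale nbhd ⇔ flat at x ⇔ local section through x, for a morphism which is an isomorphism
over a dense open with schematically dense preimage
-/

set_option autoImplicit false
universe u

open AlgebraicGeometry CategoryTheory Limits TopologicalSpace

namespace Groth.Agent.Lib.Helper24.Models

theorem flat_stalkMap_of_comp_openImmersion {W' X S : Scheme.{u}} (j : W' ⟶ X) [IsOpenImmersion j]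
    (f : X ⟶ S) (y : W') (h : ((j ≫ f).stalkMap y).hom.Flat) : (f.stalkMap (j y)).hom.Flat := by
  rw [Scheme.Hom.stalkMap_comp] at h
  have h2 : (inv (j.stalkMap y)).hom.Flat :=
    RingHom.Flat.of_bijective (ConcreteCategory.bijective_of_isIso _)
  have h3 := RingHom.Flat.comp h h2
  have e : f.stalkMap (j y) = (f.stalkMap (j y) ≫ j.stalkMap y) ≫ inv (j.stalkMap y) := by
    rw [Category.assoc, IsIso.hom_inv_id, Category.comp_id]
  rw [e, CommRingCat.hom_comp]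
  exact h3

/-- local-section version of S17727. -/
theorem exists_isOpenImmersion_of_local_section {E S : Scheme.{u}} (f : E ⟶ S) (U : S.Opens)
    [IsIso (f ∣_ U)] (hdense : SchDenseOpen (f ⁻¹ᵁ U)) (V : S.Opens) (σ : V.toScheme ⟶ E)
    (hσ : σ ≫ f = V.ι) (s : V.toScheme) :
    ∃ W : E.Opens, σ s ∈ W ∧ IsOpenImmersion (W.ι ≫ f) := by
  have hrσ : Set.range σ ⊆ Set.range (f ⁻¹ᵁ V).ι := by
    rintro _ ⟨t, rfl⟩
    rw [Scheme.Opens.range_ι]
    change f (σ t) ∈ V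
    rw [← Scheme.Hom.comp_apply, hσ]
    exact t.2
  obtain ⟨σV, hσV⟩ : ∃ σV : V.toScheme ⟶ (f ⁻¹ᵁ V).toScheme, σV ≫ (f ⁻¹ᵁ V).ι = σ :=
    ⟨IsOpenImmersion.lift (f ⁻¹ᵁ V).ι σ hrσ, IsOpenImmersion.lift_fac _ _ _⟩
  have hsec : σV ≫ (f ∣_ V) = 𝟙 _ := by
    rw [← cancel_mono V.ι, Category.assoc, morphismRestrict_ι, ← Category.assoc, hσV, hσ,
      Category.id_comp]
  haveI : IsImmersion (σV ≫ (f ∣_ V)) := by rw [hsec]; infer_instance
  haveI : IsImmersion σV := IsImmersion.of_comp σV (f ∣_ V)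
  have hσ' : σV.liftCoborder ≫ σV.coborderRange.ι = σV := σV.liftCoborder_ι
  have hd := schDenseOpen_restrict _ (schDenseOpen_restrict (f ⁻¹ᵁ U) hdense (f ⁻¹ᵁ V))
    σV.coborderRange
  have hl : ((σV.coborderRange.ι ⁻¹ᵁ ((f ⁻¹ᵁ V).ι ⁻¹ᵁ (f ⁻¹ᵁ U))).ι ≫ σV.coborderRange.ι ≫
      (f ∣_ V)) ≫ σV.liftCoborder = (σV.coborderRange.ι ⁻¹ᵁ ((f ⁻¹ᵁ V).ι ⁻¹ᵁ (f ⁻¹ᵁ U))).ι := by
    rw [← cancel_mono σV.coborderRange.ι, ← cancel_mono (f ⁻¹ᵁ V).ι]
    apply eq_of_comp_eq_of_isIso_restrict f U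
    · simp only [Category.assoc]
      rw [reassoc_of% hσ', reassoc_of% hσV, hσ, morphismRestrict_ι]
    · intro t
      have ht : (f ⁻¹ᵁ V).ι (σV.coborderRange.ι t.1) ∈ f ⁻¹ᵁ U := t.2
      simp only [Scheme.Hom.comp_apply]
      exact ht
  haveI : IsIso σV.liftCoborder := isIso_of_factors' _ hd σV.liftCoborder _ hl
  refine ⟨(f ⁻¹ᵁ V).ι ''ᵁ σV.coborderRange, ?_, ?_⟩
  · refine ⟨σV.coborderRange.ι (σV.liftCoborder s), (σV.liftCoborder s).2, ?_⟩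
    have hpt : σ s = ((σV.liftCoborder ≫ σV.coborderRange.ι) ≫ (f ⁻¹ᵁ V).ι) s := by
      rw [hσ', hσV]
    exact hpt.symm
  · have h1 : σV.coborderRange.ι ≫ (f ∣_ V) = inv σV.liftCoborder := by
      rw [← cancel_epi σV.liftCoborder, IsIso.hom_inv_id, reassoc_of% hσ', hsec]
    have h2 : ((f ⁻¹ᵁ V).ι ''ᵁ σV.coborderRange).ι ≫ f =
        ((f ⁻¹ᵁ V).ι.isoImage σV.coborderRange).inv ≫ inv σV.liftCoborder ≫ V.ι := by
      rw [Iso.eq_inv_comp, ← h1, Category.assoc, morphismRestrict_ι,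
        Scheme.Hom.isoImage_hom_ι_assoc]
    rw [h2]
    infer_instance

theorem main17728 {X S : Scheme.{u}} [IsNoetherian S] (f : X ⟶ S) [LocallyOfFiniteType f]
    (U : S.Opens) (hiso : IsIso (morphismRestrict f U)) (hdense : SchDenseOpen (f ⁻¹ᵁ U))
    (x : X) :
    List.TFAE [
      ∃ W : X.Opens, x ∈ W ∧ Etale (W.ι ≫ f),
      (f.stalkMap x).hom.Flat,
      ∃ (V : S.Opens) (hV : f.base x ∈ V) (σ : (V : Scheme.{u}) ⟶ X),
        σ ≫ f = V.ι ∧ σ.base ⟨f.base x, hV⟩ = x] := by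
  haveI := hiso
  tfae_have 1 → 2 := by
    rintro ⟨W, hxW, hW⟩
    have h1 : ((W.ι ≫ f).stalkMap ⟨x, hxW⟩).hom.Flat := Flat.stalkMap (W.ι ≫ f) ⟨x, hxW⟩
    exact flat_stalkMap_of_comp_openImmersion W.ι f ⟨x, hxW⟩ h1
  tfae_have 2 → 3 := by
    intro hx
    obtain ⟨N', hxN', -, hN'⟩ := exists_isOpenImmersion_of_flat_stalkMap f U hdense x hx
    have hfac : (N'.ι ≫ f).isoOpensRange.hom ≫ (N'.ι ≫ f).opensRange.ι = N'.ι ≫ f :=
      Scheme.Hom.isoOpensRange_hom_ι _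
    have hV : f.base x ∈ (N'.ι ≫ f).opensRange := ⟨⟨x, hxN'⟩, rfl⟩
    refine ⟨(N'.ι ≫ f).opensRange, hV, (N'.ι ≫ f).isoOpensRange.inv ≫ N'.ι, ?_, ?_⟩
    · rw [Category.assoc, Iso.inv_comp_eq]
      exact hfac.symm
    · have h1 : (N'.ι ≫ f).isoOpensRange.inv ⟨f.base x, hV⟩ = ⟨x, hxN'⟩ := by
        apply (N'.ι ≫ f).injective
        have h2 : (N'.ι ≫ f) ((N'.ι ≫ f).isoOpensRange.inv ⟨f.base x, hV⟩) =
            ((N'.ι ≫ f).isoOpensRange.inv ≫ (N'.ι ≫ f).isoOpensRange.hom ≫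
              (N'.ι ≫ f).opensRange.ι) ⟨f.base x, hV⟩ := by
          rw [hfac]
          rfl
        rw [h2, Iso.inv_hom_id_assoc]
        rfl
      change N'.ι ((N'.ι ≫ f).isoOpensRange.inv ⟨f.base x, hV⟩) = x
      rw [h1]
      rfl
  tfae_have 3 → 1 := by
    rintro ⟨V, hV, σ, hσ, hσx⟩
    obtain ⟨W, hW1, hW2⟩ := exists_isOpenImmersion_of_local_section f U hdense V σ hσ
      ⟨f.base x, hV⟩
    refine ⟨W, ?_, inferInstance⟩
    rw [← hσx]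
    exact hW1
  tfae_finish

end Groth.Agent.Lib.Helper24.Models
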