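import Mathlib
import Groth.Agent.Lib.Helper24.Models.Lift
import Groth.Agent.Lib.Helper24.Models.Section

set_option autoImplicit false
universe u

open AlgebraicGeometry CategoryTheory Limits TopologicalSpace

namespace Groth.Agent.Lib.Helper24.Models

theorem main19198 (R : Type u) [CommRing R] [IsDomain R]
    [IsDiscreteValuationRing R] {C X Z : Scheme.{u}} (πC : C ⟶ Spec (CommRingCat.of R)) [Flat πC]
    [LocallyOfFiniteType πC] (f : X ⟶ C) [IsProper f] (i : Z ⟶ X) [IsClosedImmersion i]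
    [Flat ((i ≫ f) ≫ πC)] (ϖ : R) (hϖ : Irreducible ϖ)
    (hgen : IsIso ((i ≫ f) ∣_ (πC ⁻¹ᵁ (PrimeSpectrum.basicOpen ϖ))))
    (c : C) (hdom : IsDomain (C.presheaf.stalk c)) (hnorm : IsIntegrallyClosed (C.presheaf.stalk c))
    (hdim : ringKrullDim (C.presheaf.stalk c) = 1) :
    ∃ V : C.Opens, c ∈ V ∧ IsIso ((i ≫ f) ∣_ V) := by
  haveI : IsProper (i ≫ f) := inferInstance
  obtain ⟨V, hcV, σ, hσ⟩ :=
    exists_section_nhds R πC (i ≫ f) ϖ hϖ.ne_zero hgen c hdom hnorm hdim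
  exact ⟨V, hcV, isIso_restrict_of_section πC (i ≫ f) ϖ hϖ.ne_zero hgen V σ hσ⟩

end Groth.Agent.Lib.Helper24.Models
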